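import Cfsg.Agent.Lib.SuzT.AD
import Cfsg.Agent.Lib.Thompson.Basic
/-! The subgroup `3⁵:M₁₁` of the Suzuki group -/
set_option autoImplicit false
set_option maxRecDepth 100000
namespace H40.ST
open H54 H27.W H40.Suz Cfsg Cfsg.Spor Subgroup H95 MulAction
open scoped IsMulCommutative
attribute [local instance] H40.Suz.finite H40.Suz.act

theorem ea_gen {G : Type*} [Group G] [Finite G] {x : ℕ → G} {m p : ℕ}
    (hc : ∀ i < m, ∀ j < m, x i * x j = x j * x i) (hp : ∀ i < m, x i ^ p = 1) :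
    IsElementaryAbelian p (gen x m) ∧ Nat.card (gen x m) ∣ p ^ m := by
  have c : IsMulCommutative (gen x m) := isMulCommutative_closure (by
    rintro _ ⟨i, hi, rfl⟩ _ ⟨j, hj, rfl⟩; exact hc i hi j hj)
  have h : ∀ a : gen x m, a ^ p = 1 := fun a => MonoidHom.mem_ker.1 (gen_le (K := (powMonoidHom p).ker)
    (fun i hi => Subtype.ext (by simpa [coe_subGen x hi] using hp i hi)) ((gen_subGen x m).ge (mem_top a)))
  refine ⟨⟨c, fun a ha => congrArg Subtype.val (h ⟨a, ha⟩)⟩,
    (card_dvd_exponent_pow_rank' _ h).trans (pow_dvd_pow _ ?_)⟩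
  refine (rank_closure_finite_le_nat_card _).trans ?_
  exact (Nat.card_image_le (f := x) (Set.finite_Iio m)).trans (by simp)

theorem eaA : IsElementaryAbelian 3 A0 ∧ Nat.card A0 ∣ 3 ^ 5 :=
  ea_gen (fun i hi j hj => by
    simpa [xl_even, xl_odd, ← mul_assoc, mul_inv_eq_iff_eq_mul] using relA [2 * i, 2 * j, 2 * i + 1, 2 * j + 1]
      (List.mem_flatMap.2 ⟨i, List.mem_range.2 hi,
        List.mem_cons_of_mem _ (List.mem_map_of_mem (List.mem_range.2 hj))⟩))
    fun i hi => by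
      simpa [xl_even, pow_three] using relA [2 * i, 2 * i, 2 * i]
        (List.mem_flatMap.2 ⟨i, List.mem_range.2 hi, List.mem_cons_self⟩)

theorem cardA : Nat.card A0 = 3 ^ 5 ∧ zpowers (vA 0) = A0 ⊓ stabilizer Suz (finPt 1782 0) := by
  have : Fact (Nat.Prime 3) := ⟨by norm_num⟩
  have h := card_eq_orbit_mul A0 (finPt 1782 0)
  have h1 := Nat.le_of_dvd (by norm_num) eaA.2
  have m : vA 0 ∈ A0 := mem_gen vA (by norm_num)
  have l := zpowers_le.2 (mem_inf.2 ⟨m, a0_fix.1⟩)
  have h2 := card_le_of_le l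
  have h3 := (Nat.card_zpowers _).trans
    (orderOf_eq_prime (eaA.1.2 _ m) (by simpa [xl] using neA [0] (by decide)))
  rw [orbA0.2] at h
  exact ⟨by omega, eq_of_le_of_card_ge l (by omega)⟩

theorem NA_le : Nat.card (normalizer (A0 : Set Suz)) ≤ 1782 * (56 * 30) := by
  rw [card_eq_orbit_mul _ (finPt 1782 0), card_eq_orbit_mul (_ ⊓ _) (finPt 1782 995)]
  refine Nat.mul_le_mul ((Set.ncard_le_card _).trans (by simp)) (Nat.mul_le_mul
    ((Set.ncard_le_ncard ?_ (Set.toFinite _)).trans fixA)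
    (le_trans (card_le_of_le ?_) cardJA))
  swap
  · exact fun g h => ⟨⟨h.1.2, h.2⟩, h.1.1⟩
  rintro _ ⟨⟨g, h1, h2⟩, rfl⟩
  have := zpowers_le.2 a0_fix.2 (cardA.2.ge (mem_inf.2 ⟨conj_mem_of_normalizer' h1 (mem_gen vA (by norm_num)),
    mul_mem (mul_mem (inv_mem h2) a0_fix.1) h2⟩))
  exact ⟨by simpa [mul_smul, inv_smul_eq_iff, Subgroup.smul_def] using this, ⟨g, h2⟩, rfl⟩

theorem exA : centralizer (A0 : Set Suz) = A0 ∧
    IsoM11 (normalizer (A0 : Set Suz) ⧸ A0.subgroupOf (normalizer (A0 : Set Suz))) := by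
  have nc : evW vA [10] ∉ centralizer (A0 : Set Suz) := fun h => neA [10, 6, 11, 7] (by decide) (by
    simpa [xl, ← mul_assoc, mul_inv_eq_iff_eq_mul] using (h _ (mem_gen vA (show 3 < 5 by norm_num))).symm)
  have l := H24.EA.le_centralizer eaA.1
  obtain ⟨e⟩ := m11_of (x := fun i => QuotientGroup.mk' (A0.subgroupOf _) (wIn vA _ nmA i))
    (Rels.map _ (Rels.of_map _ (subtype_injective _) fun w hw =>
      (evW_subW vA EM11 w).symm.trans (relMA _ (List.mem_map_of_mem hw))))
    fun f => nc (l (mem_subgroupOf.1 ((QuotientGroup.eq_one_iff (wIn vA _ nmA 0)).1 f)))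
  have h1 := card_subgroup_dvd_card (gen (fun i => QuotientGroup.mk' (A0.subgroupOf _) (wIn vA _ nmA i)) 5)
  have h2 := card_eq_card_quotient_mul_card_subgroup (A0.subgroupOf (normalizer (A0 : Set Suz)))
  have h3 := NA_le
  have h4 := Nat.card_pos (α := normalizer (A0 : Set Suz))
  rw [Nat.card_congr (subgroupOfEquivOfLe le_normalizer).toEquiv, cardA.1] at h2
  rw [← Nat.card_congr e.toEquiv, H15.card_M11] at h1
  obtain ⟨k, hk⟩ := h1
  obtain rfl : k = 1 := by omega
  let e' := (e.trans (MulEquiv.subgroupCongr (eq_top_of_le_card _ (by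
    rw [hk, ← Nat.card_congr e.toEquiv, H15.card_M11])))).trans topEquiv
  refine ⟨le_antisymm (fun g hg => ?_) l, ⟨e'.symm⟩⟩
  have := H15.isSimple_M11
  have hn : ((centralizer (A0 : Set Suz)).subgroupOf (normalizer (A0 : Set Suz))).Normal := inferInstance
  rcases e'.symm.isSimpleGroup.eq_bot_or_eq_top_of_normal _
    (hn.map _ (QuotientGroup.mk'_surjective (A0.subgroupOf _))) with f | f
  · exact (QuotientGroup.eq_one_iff (⟨g, centralizer_le_normalizer _ hg⟩ : normalizer (A0 : Set Suz))).1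
      (f.le (mem_map_of_mem _ hg))
  · have := congrArg (comap (QuotientGroup.mk' (A0.subgroupOf _))) f
    rw [comap_map_eq, QuotientGroup.ker_mk', sup_eq_left.2 (subgroupOf_mono _ l), comap_top] at this
    exact absurd (this.ge (mem_top (wIn vA _ nmA 0))) nc

end H40.ST
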