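import Cfsg.Agent.Lib.SuzSp.Bnd
import Cfsg.Agent.Lib.SuzT.TC
/-! Presentations of `U₄(2)` and `L₃(4)`, and a collapse -/
set_option autoImplicit false
set_option maxRecDepth 100000
namespace H40.ST
open H54
def RW : List (List ℕ) := [[0, 0, 0],
  [2, 2, 2],
  [4, 4, 4],
  [6, 6, 6],
  [8, 8, 8],
  [0, 2, 0, 2],
  [0, 2, 4, 0, 2, 4],
  [0, 2, 4, 6, 0, 2, 4, 6],
  [2, 4, 2, 4],
  [2, 4, 6, 2, 4, 6],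
  [4, 6, 4, 6],
  [8, 3, 8, 3],
  [8, 3, 1, 8, 3, 1],
  [8, 4, 8, 4],
  [8, 4, 6, 8, 4, 6]]
def RW4 : List (List ℕ) := [[0, 0, 0],
  [2, 2, 2],
  [4, 4, 4],
  [6, 6, 6],
  [0, 2, 0, 2],
  [0, 2, 4, 0, 2, 4],
  [0, 2, 4, 6, 0, 2, 4, 6],
  [2, 4, 2, 4],
  [2, 4, 6, 2, 4, 6],
  [4, 6, 4, 6]]
def RW3 : List (List ℕ) := [[0, 0, 0],
  [2, 2, 2],
  [4, 4, 4],
  [0, 2, 0, 2],
  [0, 2, 4, 0, 2, 4],
  [2, 4, 2, 4]]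
def RL : List (List ℕ) := [[0, 0],
  [0, 2, 0, 2, 0, 2, 0, 2, 0, 2],
  [0, 4, 0, 4],
  [0, 6, 0, 6],
  [0, 8, 0, 8],
  [2, 2],
  [2, 4, 2, 4, 2, 4],
  [2, 6, 2, 6, 2, 6],
  [2, 8, 2, 8, 2, 8],
  [4, 4],
  [4, 6, 4, 6],
  [4, 8, 4, 8],
  [6, 6],
  [6, 8, 6, 8, 6, 8, 6, 8],
  [8, 8],
  [0, 8, 6, 8, 6],
  [0, 2, 4, 6, 0, 2, 4, 6, 0, 2, 4, 6, 0, 2, 4, 6, 0, 2, 4, 6],
  [2, 6, 8, 2, 6, 8, 2, 6, 8, 2, 6, 8, 2, 6, 8],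
  [0, 2, 4, 8, 0, 2, 4, 8, 0, 2, 4, 8, 0, 2, 4, 8, 0, 2, 4, 8]]
def RL4 : List (List ℕ) := [[0, 0],
  [0, 2, 0, 2, 0, 2, 0, 2, 0, 2],
  [0, 4, 0, 4],
  [0, 6, 0, 6],
  [2, 2],
  [2, 4, 2, 4, 2, 4],
  [2, 6, 2, 6, 2, 6],
  [4, 4],
  [4, 6, 4, 6, 4, 6, 4, 6],
  [6, 6],
  [0, 6, 4, 6, 4],
  [2, 4, 6, 2, 4, 6, 2, 4, 6, 2, 4, 6, 2, 4, 6]]
def RC : List (List ℕ) := [[0, 0],
  [0, 2, 0, 2, 0, 2, 0, 2, 0, 2],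
  [0, 4, 0, 4],
  [0, 6, 0, 6],
  [0, 8, 0, 8],
  [2, 2],
  [2, 4, 2, 4, 2, 4],
  [2, 6, 2, 6],
  [2, 8, 2, 8],
  [4, 4],
  [4, 6, 4, 6, 4, 6, 4, 6, 4, 6, 4, 6, 4, 6, 4, 6],
  [4, 8, 4, 8],
  [6, 6],
  [6, 8, 6, 8, 6, 8],
  [8, 8],
  [0, 6, 4, 6, 4, 6, 4, 6, 4],
  [10, 10, 10],
  [10, 0, 11, 0],
  [10, 2, 11, 2],
  [10, 4, 11, 4],
  [10, 6, 10, 6],
  [10, 8, 10, 8, 10, 8],
  [2, 4, 6, 4, 6, 2, 4, 6, 4, 6, 2, 4, 6, 4, 6, 2, 4, 6, 4, 6, 2, 4, 6, 4, 6]]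
def RA : List (List ℕ) := [[0, 0],
  [0, 2, 0, 2, 0, 2],
  [2, 2],
  [4, 4, 4],
  [4, 0, 4, 0],
  [4, 2, 4, 2, 4, 2]]
theorem bndW3 : Bnd RW3 3 60 :=
  Bnd.tc (bnd_zero []) (n := 60) (fun g ω => T54.SzW3.enum g ω) (by decide) [0, 1, 2, 3, 4, 5] rfl (icol_ge _ rfl)
    []
    [([0, 1], []),
  ([1, 0], []),
  ([2, 3], []),
  ([3, 2], []),
  ([4, 5], []),
  ([5, 4], [])]
    (by decide +kernel)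
theorem bndW4 : Bnd RW4 4 360 :=
  Bnd.tc bndW3 (n := 6) (fun g ω => T54.SzW4.enum g ω) (by decide) [0, 1, 2, 3, 4, 5, 6, 7] rfl (icol_ge _ rfl)
    [[0],
  [2],
  [4]]
    [([0, 1], []),
  ([1, 0], []),
  ([2, 3], []),
  ([3, 2], []),
  ([4, 5], []),
  ([5, 4], []),
  ([6, 7], []),
  ([7, 6], [])]
    (by decide +kernel)
theorem bndW : Bnd RW 5 25920 :=
  Bnd.tc bndW4 (n := 72) (fun g ω => T54.SzW5.enum g ω) (by decide) [0, 1, 2, 3, 4, 5, 6, 7, 8, 9] rfl (icol_ge _ rfl)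
    [[0],
  [2],
  [4],
  [6]]
    [([0, 1], []),
  ([1, 0], []),
  ([2, 3], []),
  ([3, 2], []),
  ([4, 5], []),
  ([5, 4], []),
  ([6, 7], []),
  ([7, 6], []),
  ([8, 9], []),
  ([9, 8], [])]
    (by decide +kernel)
theorem bndL4 : Bnd RL4 4 360 :=
  Bnd.tc H40.Suz.bnd2 (n := 36) (fun g ω => T54.SzL4.enum g ω) (by decide) [0, 2, 4, 6] rfl (fun _ h => h)
    [[0],
  [2]]
    []
    (by decide +kernel)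
theorem bndL : Bnd RL 5 20160 :=
  Bnd.tc bndL4 (n := 56) (fun g ω => T54.SzL5.enum g ω) (by decide) [0, 2, 4, 6, 8] rfl (fun _ h => h)
    [[0],
  [2],
  [6],
  [8]]
    []
    (by decide +kernel)
theorem bndA : Bnd RA 3 60 :=
  Bnd.tc (bnd_zero []) (n := 60) (fun g ω => T54.SzA.enum g ω) (by decide) [0, 2, 4, 5] rfl (icol_ge _ rfl)
    []
    [([4, 5], []),
  ([5, 4], [])]
    (by decide +kernel)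
theorem bndC : Bnd RC 6 60 :=
  Bnd.tc bndA (n := 1) (fun g ω => T54.SzC.enum g ω) (by decide) [0, 2, 4, 6, 8, 10, 11] rfl (icol_ge _ rfl)
    [[6],
  [8],
  [10]]
    [([10, 11], []),
  ([11, 10], [])]
    (by decide +kernel)
theorem eqns_bnd : True := by
  have := @RW.eq_1
  have := @RW4.eq_1
  have := @RW3.eq_1
  have := @RL.eq_1
  have := @RL4.eq_1
  have := @RC.eq_1
  have := @RA.eq_1
  trivial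

end H40.ST
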