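import Cfsg.Agent.Lib.SuzT.SyD
/-! The normalisers of the Sylow 5- and 7-subgroups of the Suzuki group -/
set_option autoImplicit false
set_option maxRecDepth 100000
namespace H40.ST
open H54 H27.W H40.Suz Cfsg.Spor Subgroup H95
attribute [local instance] H40.Suz.finite H40.Suz.act

/-- generators of `ℤ₇ × A₄` -/
def q7 : ℕ → Multiplicative (ZMod 7) × alternatingGroup (Fin 4) := gv [(Multiplicative.ofAdd 1, 1),
  (1, ⟨Equiv.swap 0 1 * Equiv.swap 2 3, Equiv.Perm.mem_alternatingGroup.2 (by decide)⟩),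
  (1, ⟨Equiv.swap 0 1 * Equiv.swap 1 2, Equiv.Perm.mem_alternatingGroup.2 (by decide)⟩)]

/-- generators of `ℤ₄ × S₃` -/
def q24 : ℕ → Multiplicative (ZMod 4) × Equiv.Perm (Fin 3) := gv [(Multiplicative.ofAdd 1, 1),
  (1, Equiv.swap 0 1), (1, Equiv.swap 0 1 * Equiv.swap 1 2)]

theorem ord_t : orderOf (v7 0) = 7 :=
  have : Fact (Nat.Prime 7) := ⟨by norm_num⟩
  orderOf_eq_prime (by simpa [xl, pow_succ, mul_assoc] using rel7 [0, 0, 0, 0, 0, 0, 0] (by decide))
    (by simpa [xl] using ne7 [0] (by decide))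

theorem equiv7 : Nonempty (centralizer {v7 0} ≃* Multiplicative (ZMod 7) × alternatingGroup (Fin 4)) ∧
    Nat.card (centralizer {v7 0}) = 84 := by
  have c : Nat.card (Multiplicative (ZMod 7) × alternatingGroup (Fin 4)) = 84 := by
    rw [Nat.card_prod, nat_card_alternatingGroup]; simp [Nat.factorial]
  obtain ⟨e⟩ := equiv_of_words bnd7 (q := q7) (W := W7) (by unfold Rels; decide +kernel) c.ge (by decide +kernel)
    (by decide +kernel) rel7 ne7
  have h : gen v7 3 = centralizer {v7 0} := eq_of_le_of_card_ge (gen_le fun i hi => mem_cent_iff.2 (by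
      interval_cases i
      · rfl
      · symm; simpa [xl, ← mul_assoc, mul_inv_eq_iff_eq_mul] using rel7 [0, 2, 1, 3] (by decide)
      · symm; simpa [xl, ← mul_assoc, mul_inv_eq_iff_eq_mul] using rel7 [0, 4, 1, 5] (by decide)))
    (by rw [← Nat.card_congr e.toEquiv, c]; exact cent_t)
  exact ⟨⟨(e.trans (MulEquiv.subgroupCongr h)).symm⟩, by rw [← h, ← Nat.card_congr e.toEquiv, c]⟩

theorem card_N7 : Nat.card (normalizer (zpowers (v7 0) : Set Suz)) = 504 := by
  classical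
  have n : v7 3 ∈ normalizer (zpowers (v7 0) : Set Suz) := mem_normalizer_fintype fun _ ⟨k, e⟩ => by
    rw [← e, ← conj_zpow, cj7]; exact zpow_mem (pow_mem (mem_zpowers _) _) _
  have h : ∀ j : ℕ, v7 3 ^ j * v7 0 * (v7 3 ^ j)⁻¹ = v7 0 ^ (3 ^ j % 7) := fun j => by
    rw [← ord_t, pow_mod_orderOf]
    induction j with
    | zero => simp
    | succ j ih => rw [pow_succ', mul_inv_rev, mul_assoc (v7 3), mul_assoc (v7 3), ← mul_assoc _ _ (v7 3)⁻¹, ih,
        ← mul_assoc, ← conj_pow, cj7, ← pow_mul, pow_succ' 3]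
  have e : clsIn (normalizer (zpowers (v7 0) : Set Suz)) (v7 0) = (zpowers (v7 0) : Set Suz) \ {1} := by
    ext g
    constructor
    · rintro ⟨k, hk, rfl⟩
      exact ⟨conj_mem_of_normalizer hk (mem_zpowers _), fun e => by
        simpa [conj_eq_one_iff.1 e] using ord_t⟩
    · rintro ⟨h1, h2⟩
      obtain ⟨k, hk, rfl⟩ := Finset.mem_image.1 (mem_zpowers_iff_mem_range_orderOf.1 h1)
      rw [ord_t] at hk
      obtain ⟨j, -, rfl⟩ := (by decide : ∀ k ∈ Finset.range 7, k = 0 ∨ ∃ j ∈ Finset.range 6, 3 ^ j % 7 = k)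
        k hk |>.resolve_left fun e => h2 (by simp [e])
      exact ⟨_, pow_mem n j, h j⟩
  rw [← ncard_clsIn_mul _ (v7 0), e, inf_eq_right.2 (cent_zp (v7 0) ▸ centralizer_le_normalizer _), equiv7.2,
    Set.ncard_sdiff_singleton_of_mem (one_mem _), ← Nat.card_coe_set_eq, SetLike.coe_sort_coe,
    Nat.card_zpowers, ord_t]

/-- the Sylow 5-subgroup -/
noncomputable abbrev P0 : Subgroup Suz := wgen v5 [[6], [8]]

theorem x_mem : v5 3 ∈ P0 := mul_one (v5 3) ▸ mem_wgen v5 (w := [6]) (by decide)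

theorem y_mem5 : v5 4 ∈ P0 := mul_one (v5 4) ▸ mem_wgen v5 (w := [8]) (by decide)

theorem P0_le {K : Subgroup Suz} (h1 : v5 3 ∈ K) (h2 : v5 4 ∈ K) : P0 ≤ K := wgen_le (by simp [xl, h1, h2])

theorem P0_eq : wgen (uW lt PJ) [nthW P5 6, nthW P5 8] = P0 :=
  le_antisymm (wgen_le (by simp [ev_x, ev_y, x_mem, y_mem5]))
    (P0_le (ev_x ▸ mem_wgen _ (by simp)) (ev_y ▸ mem_wgen _ (by simp)))

theorem card_P0 : Nat.card P0 = 25 := P0_eq ▸ (cJ5.1.card WJ.X WJ.K).trans jC5_size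

theorem x5 : v5 3 ^ 5 = 1 := by simpa [xl, pow_succ, mul_assoc] using rel5 [6, 6, 6, 6, 6] (by decide)

theorem cxy : Commute (v5 3) (v5 4) := by
  simpa [commute_iff_eq, xl, ← mul_assoc, mul_inv_eq_iff_eq_mul] using rel5 [6, 8, 7, 9] (by decide)

theorem mem_P0 {g : Suz} (h : g ∈ P0) : ∃ i, i < 5 ∧ ∃ j, j < 5 ∧ g = v5 3 ^ i * v5 4 ^ j :=
  mem_pair (by norm_num) cxy x5 (by simpa [xl, pow_succ, mul_assoc] using rel5 [8, 8, 8, 8, 8] (by decide))
    (P0_le (subset_closure (by simp)) (subset_closure (by simp)) h)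

theorem cent_P0 : Nat.card (centralizer (P0 : Set Suz)) ≤ 50 := by
  have b : evW v5 [6, 8, 8] ∈ P0 := subW_mem_wgen v5 [[6], [8]] [0, 2, 2]
  have hJ := ((cJ5.2 _).1 (P0_eq ▸ b)).1
  refine sub_le (fun g hg => mem_cent_iff.2 (mem_centralizer_iff.1 hg _ b).symm) hJ.1 hJ.2 fix_b fix_b'
    (k := 25) (card_P0 ▸ card_le_of_le fun g hg => P0_eq ▸ (cJ5.2 g).2 ⟨hg.1, ?_⟩)
  simp only [List.forall_mem_cons, ev_x, ev_y]
  exact ⟨(mem_centralizer_iff.1 hg.2 _ x_mem).symm, (mem_centralizer_iff.1 hg.2 _ y_mem5).symm, by simp⟩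

theorem cls5 {i j : ℕ} (hi : i < 6) (hj : j < 5) (h : ¬ (i % 5 = 0 ∧ j = 0)) :
    IsConj (evW v5 (if tyB i j then [6, 8, 8] else [6])) (v5 3 ^ i * v5 4 ^ j) := by
  obtain ⟨a, ha, rfl, rfl⟩ := (by decide +kernel : ∀ i < 6, ∀ j < 5, ¬ (i % 5 = 0 ∧ j = 0) →
    ∃ a ∈ T5, a.1 = i ∧ a.2.1 = j) i hi j hj h
  have := eq5 _ (List.mem_map_of_mem ha)
  rw [At, evW_append, evW_append, evW_append, evW_invA, evW_nil, mul_one, ← mul_assoc] at this
  exact isConj_iff.2 ⟨_, this.symm.trans (by simp [evW, xl])⟩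

theorem not_tyB {i j : ℕ} (hi : i < 6) (hj : j < 5) (h : IsConj (v5 3) (v5 3 ^ i * v5 4 ^ j)) :
    tyB i j = false ∧ ¬ (i % 5 = 0 ∧ j = 0) := by
  have h0 : ¬ (i % 5 = 0 ∧ j = 0) := fun e => ne5 [6] (by decide) (by
    rw [e.2, pow_eq_pow_mod i x5, e.1] at h
    simpa [xl] using h)
  refine ⟨Bool.eq_false_iff.2 fun e => nc5 _ (mem_zpowers _) (h.trans ?_), h0⟩
  simpa only [e, if_true] using (cls5 hi hj h0).symm

theorem N5_le : Nat.card (normalizer (P0 : Set Suz)) ≤ 12 * (5 * 50) := by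
  have cy : IsConj (v5 3) (v5 4) := by simpa [tyB, xl] using cls5 (i := 0) (j := 1) (by omega) (by omega) (by omega)
  have cxy : IsConj (v5 3) (v5 3 * v5 4) := by
    simpa [tyB, xl] using cls5 (i := 1) (j := 1) (by omega) (by omega) (by omega)
  rw [← ncard_clsIn_mul _ (v5 3), ← ncard_clsIn_mul (_ ⊓ _) (v5 4)]
  refine Nat.mul_le_mul (ncard_le_len (fun a : ℕ × ℕ => v5 3 ^ a.1 * v5 4 ^ a.2) [(1, 0), (2, 0), (3, 0), (4, 0),
    (0, 1), (0, 2), (0, 3), (0, 4), (1, 1), (2, 2), (3, 3), (4, 4)] ?_) (Nat.mul_le_mul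
    (ncard_le_len (fun a : ℕ × ℕ => v5 3 ^ a.1 * v5 4 ^ a.2) [(1, 0), (2, 0), (3, 0), (0, 1), (4, 4)] ?_)
    ((card_le_of_le fun g hg => ?_).trans cent_P0))
  · rintro _ ⟨k, hk, rfl⟩
    obtain ⟨i, hi, j, hj, e⟩ := mem_P0 (conj_mem_of_normalizer hk x_mem)
    have := not_tyB (by omega) hj (isConj_of_conj e)
    exact ⟨(i, j), by revert this; interval_cases i <;> interval_cases j <;> decide, e.symm⟩
  · rintro _ ⟨k, hk, rfl⟩
    obtain ⟨i, hi, j, hj, e⟩ := mem_P0 (conj_mem_of_normalizer hk.1 y_mem5)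
    have h1 := not_tyB (by omega) hj (cy.trans (isConj_of_conj e))
    have h2 := not_tyB (i := i + 1) (by omega) hj (cxy.trans (isConj_of_conj (g := k) (by
      rw [pow_succ', mul_assoc (v5 3), ← e, ← mul_assoc k, mem_cent_iff.1 hk.2]; simp only [mul_assoc])))
    exact ⟨(i, j), by revert h1 h2; interval_cases i <;> interval_cases j <;> decide, e.symm⟩
  · exact mem_centralizer_iff.2 fun a ha => mem_cent_iff.1 (P0_le (K := centralizer {g})
      (mem_cent_iff.2 (mem_cent_iff.1 hg.1.2).symm) (mem_cent_iff.2 (mem_cent_iff.1 hg.2).symm) ha)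

theorem norm5 : Nat.card (normalizer (P0 : Set Suz)) = 600 ∧ Nonempty (normalizer (P0 : Set Suz) ⧸
    P0.subgroupOf (normalizer (P0 : Set Suz)) ≃* Multiplicative (ZMod 4) × Equiv.Perm (Fin 3)) := by
  have : Fact (Nat.Prime 5) := ⟨by norm_num⟩
  have c : Nat.card (Multiplicative (ZMod 4) × Equiv.Perm (Fin 3)) = 24 := by simp [Fintype.card_perm, Nat.factorial]
  let ν := wIn v5 _ nm5
  have hν : ∀ w, (∀ l ∈ w, l < 2 * 3) → (evW ν w).1 = evW v5 w := fun w hw =>
    (map_evW (Subgroup.subtype _) ν w).trans (evW_congr (fun i hi => by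
      interval_cases i <;> exact mul_one _) hw)
  obtain ⟨e⟩ := equiv_of_words bnd24 (q := q24) (W := W24) (by unfold Rels; decide +kernel) c.ge
    (by decide +kernel) (by decide +kernel) (x := fun i => QuotientGroup.mk' (P0.subgroupOf _) (ν i))
    (Rels.map _ fun w hw => Subtype.ext ((hν w (wfL_spec (by decide +kernel) hw)).trans (rel24 w hw)))
    fun w hw e => by
      rw [← map_evW, QuotientGroup.mk'_apply, QuotientGroup.eq_one_iff, mem_subgroupOf,
        hν w (wfL_spec (by decide +kernel) hw)] at e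
      have := P0_le (K := centralizer {v5 3} ⊓ centralizer {v5 4}) ⟨mem_cent_iff.2 rfl, mem_cent_iff.2 cxy⟩
        ⟨mem_cent_iff.2 cxy.symm, mem_cent_iff.2 rfl⟩ e
      rcases (by decide +kernel : ∀ w ∈ W24, w ++ 6 :: invA w [7] ∈ N5 ∨ w ++ 8 :: invA w [9] ∈ N5) w hw with f | f <;>
        refine ne5 _ f ?_
      · simp [evW_append, evW_invA, xl, ← mul_assoc, mem_cent_iff.1 this.1]
      · simp [evW_append, evW_invA, xl, ← mul_assoc, mem_cent_iff.1 this.2]
  have h1 := card_subgroup_dvd_card (gen (fun i => QuotientGroup.mk' (P0.subgroupOf _) (ν i)) 3)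
  have h2 := card_eq_card_quotient_mul_card_subgroup (P0.subgroupOf (normalizer (P0 : Set Suz)))
  rw [Nat.card_congr (subgroupOfEquivOfLe le_normalizer).toEquiv, card_P0] at h2
  rw [← Nat.card_congr e.toEquiv, c] at h1
  have h3 := P0.card_mul_index
  rw [card_P0, H40.Suz.card] at h3
  have h4 := card_sylow_modEq_one 5 Suz
  rw [((IsPGroup.of_card (n := 2) card_P0).toSylow (by omega)).card_eq_index_normalizer] at h4
  have h5 := (normalizer (P0 : Set Suz)).card_mul_index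
  have h6 := N5_le
  obtain ⟨k, hk⟩ := h1
  rw [H40.Suz.card, h2, hk] at h5
  rw [h2, hk] at h6
  obtain rfl : k = 1 := by
    change (normalizer (P0 : Set Suz)).index % 5 = 1 at h4
    have : k ≤ 5 := by omega
    interval_cases k <;> omega
  refine ⟨by rw [h2, hk], ⟨((e.trans (MulEquiv.subgroupCongr (eq_top_of_le_card _ ?_))).trans topEquiv).symm⟩⟩
  rw [hk, ← Nat.card_congr e.toEquiv, c]

theorem cls_five : orderOf (v5 3) = 5 ∧ orderOf (evW v5 [6, 8, 8]) = 5 ∧
    ∀ g : Suz, orderOf g = 5 → IsConj g (v5 3) ∨ IsConj g (evW v5 [6, 8, 8]) := by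
  have : Fact (Nat.Prime 5) := ⟨by norm_num⟩
  refine ⟨orderOf_eq_prime x5 (by simpa [xl] using ne5 [6] (by decide)), orderOf_eq_prime
    ((evW_rep v5 _ 5).symm.trans (L5.rels (R := [_]) (by decide +kernel) _ List.mem_cons_self))
    (ne5 _ (by decide)), fun g hg => ?_⟩
  obtain ⟨k, -, hk⟩ := conj_into (p := 5) (K := ⊤) (T := P0) (k := 2) le_top (by rw [card_P0]; norm_num)
    (by rw [card_top, H40.Suz.card]; norm_num) le_top (zp_of_pow (hg ▸ pow_orderOf_eq_one g))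
  obtain ⟨i, hi, j, hj, e⟩ := mem_P0 (hk g (mem_zpowers g))
  have := (isConj_of_conj e).trans (cls5 (by omega) hj fun f => by
    rw [f.2, show i = 0 by omega, pow_zero, pow_zero, mul_one, conj_eq_one_iff] at e
    simp [e] at hg).symm
  split_ifs at this
  exacts [Or.inr this, Or.inl (by simpa [xl] using this)]

theorem eqns_syl : True := by
  have := @q7.eq_1
  have := @q24.eq_1
  have := @P0.eq_1
  trivial

end H40.ST
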