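import Cfsg.Agent.Lib.CosetEnum.TC
set_option autoImplicit false
set_option maxRecDepth 100000
namespace T54.SzS7
open H54 (Tr force band)
open H18.TC
noncomputable def T_0 : Tr := (.node (nat_lit 4) (.node (nat_lit 1) (.node (nat_lit 0) (.leaf (nat_lit 0x2000002c68266903fe04fc0e6c00100000136a106b0f6c0cfe8b6d003000000c7b0aff616e197216f60040000007ff0bfa3c6f1b730a770020000030f0257102ff077405780000000018721bf306741d7501ff0010000014760977047800ff0d79000000000b7a087b037c027d017e)) (.leaf (nat_lit 0x2ff1317c475c33602ee80040000024fc3070625d35612769003000001a7317fd805e21e218fa003000001c7d19f2505f1e631afb00200000326035e105fd236406fc0000000021621f63246494651cfd00300000167713fe6f66177a14ea0040000008fe15f63d6709fb116b))) (.node (nat_lit 2) (.leaf (nat_lit 0x3000002e692bf844512f702cd50040000025f82de86b5226f129560040000011eb12f9715315768c57004000000ff9126a3f5410f79058001000002b5528560ef90df8b659001000008d578e58b7598af994e500200000635d645a60fa80de6e6600200000565b485c3bfb525f3e67)) (.node (nat_lit 3) (.leaf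 (nat_lit 0x300000346131f44a463aca32f000300000367433e07c47374b34f1004000001fe320f58348974c2272000000001ef520624d49924d1df3000000003a4a384b23f5ba4e22f400300000964c92cdb94e956d93f5004000006bd26ccf6ef66dee705300200000595045513cf73def4054)) (.leaf (nat_lit 0x4000008ded8ed7aa418feb914d00400000b4c2c4c3b6edb5ecb84e0040000063ee64dd65db7944674f00100000575c55ef665a54c558500000000047ef56db46f0494645d100200000655a62ee61f17cc76a52004000007dc77ec47ff28248816e00100000544550c64ff34ec951ef))))) (.node (nat_lit 7) (.node (nat_lit 5) (.leaf (nat_lit 0x1000005a5158e7684f57db5b3d0000000044e759d043e8465c42be0040000068cf6c666ae969dd773f00100000763f723c70ea6fe6cb40002000005c3d413e3eeb3fe7a9410040000029d62aec423e2d68b3420040000027ec2a55783f28e9c5c3001000008f588cedcc408bea98cc)) (.node (nat_lit 6) (.leaf (nat_lit 0x8837843482e29b3881de002000005e354db64ce3a6394f5f0040000038cb39e44c36c0ba3b600000000037e4394a8937bcbb36e100300000984d95e59a38995796e200100000936597cca83990d891e300100000bf3abb3bb8e5b7d9b9e4001000006d66695267d066da733c))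 (.leaf (nat_lit 0x400000c9b3ce30cbd7cad3cd3800100000ac31b0b2a9d8a8d4aab900100000c343b559b3b2b2d5c1ba00300000c559c2c2c733c656c3bb000000007f5e7b4779c585b478da0040000052c653df7a445f35555b00000000515f534549e04b3648dc004000007ac47e5e7be189b77d5d)))) (.node (nat_lit 8) (.leaf (nat_lit 0x2000009c2f9fac99ccccc09ac800300000a72da4aea7cdab41a5c900400000bdbbbecebfaec242c14a00400000bacebe3abbafc443bd4b0040000071d3753f73bd72cfd030001000005d3e5bd4743c5ad0adb10040000040d45cbd41d54351b1b20040000074bc75d377d676d2c833)) (.node (nat_lit 9) (.leaf (nat_lit 0x400000cdc0ceb3d0b1cfbcd22c00300000af32abc1d130ae3dacad00300000b141aeb1b442b23eafae00200000cf30ca40c6c3c7bfc8af0040000083c8873784b59f2c86440030000060365dc98534a22d5ec5000000004e495fb54bcaa42e4ac60040000086b487c888cb9d2f8a47)) (.leaf (nat_lit 0x300000a0389dafa12dd1b09eb400200000a32ea6b9a0acad31a1b500300000a539a2adc03ab032a3b6003000009e2c9bb8bc3bc9339cb7))))))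
noncomputable def J_0 : Tr := (.node (nat_lit 4) (.node (nat_lit 1) (.node (nat_lit 0) (.leaf (nat_lit 0x100100100000000000000002002000000000200200000000040010010008000000000000000400100100000000000000008000001001000000000000080080000000000000000000000)) (.leaf (nat_lit 0x400000000040040010010000000000000000000200200000080040000008008000000001000000000300100000080000000000000001001000000200200000000040010010008000002000))) (.node (nat_lit 2) (.leaf (nat_lit 0x200200000000040010010008000002000000400400200000000000010010000000002000000000000000280080000000000000002002001000000000100100080000000000004004000000)) (.node (nat_lit 3) (.leaf (nat_lit 0x200200000080040000008008000000001000400400200000000000000010000000001001000000000000300040040000008008000000001000400400200100080000000000004004004000)) (.leaf (nat_lit 0x40040020000008000001001000800400200000040040020010000000000000001000200200000000040040030004004000000001c00400200000040040020010000000000000001000a002001))))) (.node (nat_lit 7) (.node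 (nat_lit 5) (.leaf (nat_lit 0x40008008000000001001000c00100100040040000010008000000000000000a002000000000000100100100000010010008000000000000400400000000080040000000010002002001)) (.node (nat_lit 6) (.leaf (nat_lit 0x30004004000000001c0040000000004004002000000800000000100000000030010000002002000000000400000000080020020030000000000002800800c000000000000a002000)) (.leaf (nat_lit 0x40040000010008000000000000800a0020030000000000002800800c00000080080000000010000000000003000c0040010010008000000000000000000000300040040010010000004002000)))) (.node (nat_lit 8) (.leaf (nat_lit 0x300100080080000008008004000001000400400200100000000010010000004000000000400400000100080000000000010002002001000400400400100000040010010008004002000)) (.node (nat_lit 9) (.leaf (nat_lit 0x400400200100080000000008008000000001000000200200000000040000000004004004002000400400000100000000000008008000000001000000000200300040040010010008004000000)) (.leaf (nat_lit 0x20020000008004000000000c004000002000000200200000000040000008008000000001))))))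
noncomputable def F_0 : Tr := (.node (nat_lit 4) (.node (nat_lit 1) (.node (nat_lit 0) (.leaf (nat_lit 0x8f1a2c44a911a24280f9e3a70dc3850603f7cf5e3364c582f5cb48901e3868c162962b54a54274c68c982e582840608a9426484880e00301)) (.leaf (nat_lit 0x972a4c8a74a8d076e9cb86ed9ab49f3a6cc))) (.node (nat_lit 2) (.leaf (nat_lit 0x58ad529972a4c88f1a2c4509d325488d119305cb15284ddba72e1bb66ad19b262488901e384880e190a03e78e9c3668284060468c1628002)) (.node (nat_lit 3) (.leaf (nat_lit 0x9f3a6cc870a0c0a74a8d07ef9ebc60bd72d)) (.leaf (nat_lit 0x509e6cc74ecf9e3a724c88f18d2f605cb15290603f7c492251e3868c72e1bb614c44885cb562b0c9828446890a0046cc98024c890002c383))))) (.node (nat_lit 6) (.node (nat_lit 5) (.leaf (nat_lit 0xa54e2c49d3debc952dab466ca8d0850d529)) (.leaf (nat_lit 0x9f3533d7081d219724db534ce22d30bccc3824d51250f11104845db9167c51d68c982e0e5c315529d2a3063c10d3c700892c500051c30404))) (.node (nat_lit 7) (.leaf (nat_lit 0xa11a94798fa73f90da537a7458c580ae12c)) (.node (nat_lit 8) (.leaf (nat_lit 0x9939e2642e503b9129a1b646a2995c6184084a49a724f48a32095c3a3c2ce0a6acd6af2c1ca0654a11241c0c6023e744012e542001e34485))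 (.leaf (nat_lit 0x8f463537f35f4f6f25b4ba14a23159055c3))))))
noncomputable def T : Tr := T_0
noncomputable def J : Tr := J_0
noncomputable def F : Tr := F_0
noncomputable def row (u : ℕ) : ℕ := Nat.land (Nat.shiftRight (force (Nat.shiftRight u (nat_lit 3)) T.get) (Nat.mul (Nat.land u (nat_lit 7)) (nat_lit 112))) (nat_lit 0xffffffffffffffffffffffffffff)
noncomputable def jrow (u : ℕ) : ℕ := Nat.land (Nat.shiftRight (force (Nat.shiftRight u (nat_lit 3)) J.get) (Nat.mul (Nat.land u (nat_lit 7)) (nat_lit 78))) (nat_lit 0x3fffffffffffffffffff)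
noncomputable def fget (k fx : ℕ) : ℕ := F.get (Nat.add k fx)
noncomputable def wt0 : LT := (.node (nat_lit 0) (.leaf 11 0 [nat_lit 48, nat_lit 0, nat_lit 64])
(.node (nat_lit 2) (.node (nat_lit 1) (.leaf 9 0 [nat_lit 32, nat_lit 0, nat_lit 32])
(.leaf 1 0 [nat_lit 16, nat_lit 16, nat_lit 16, nat_lit 16, nat_lit 16, nat_lit 16]))
(.leaf 0 0 [])))
noncomputable def wt1 : LT := (.node (nat_lit 0) (.leaf 11 2 [nat_lit 64, nat_lit 16, nat_lit 48])
(.node (nat_lit 1) (.leaf 9 2 [nat_lit 32, nat_lit 16, nat_lit 32])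
(.leaf 0 0 [])))
noncomputable def wt2 : LT := (.node (nat_lit 1) (.node (nat_lit 0) (.leaf 7 0 [nat_lit 64, nat_lit 32, nat_lit 64, nat_lit 32, nat_lit 64])
(.leaf 9 3 [nat_lit 16, nat_lit 32, nat_lit 0]))
(.node (nat_lit 2) (.leaf 9 1 [nat_lit 0, nat_lit 32, nat_lit 16])
(.leaf 0 0 [])))
noncomputable def wt3 : LT := (.node (nat_lit 0) (.leaf 5 0 [nat_lit 64, nat_lit 64])
(.node (nat_lit 2) (.node (nat_lit 1) (.leaf 11 3 [nat_lit 16, nat_lit 48, nat_lit 0])
(.leaf 7 5 [nat_lit 32, nat_lit 64, nat_lit 32, nat_lit 64, nat_lit 32]))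
(.leaf 0 0 [])))
noncomputable def wt4 : LT := (.node (nat_lit 0) (.leaf 11 1 [nat_lit 0, nat_lit 64, nat_lit 16])
(.leaf 0 0 []))
noncomputable def wt5 : LT := (.leaf 0 0 [])
noncomputable def sl : List (ℕ × ℕ × List ℕ × List ℕ) := []
/-- the inverse column -/
noncomputable def icol (x : ℕ) : ℕ := List.getD [nat_lit 1, nat_lit 0, nat_lit 2, nat_lit 4, nat_lit 3] x x
noncomputable def inv (x : ℕ) : ℕ := Nat.mul (icol (Nat.div x (nat_lit 16))) (nat_lit 16)
def cols : List ℕ := [nat_lit 80, nat_lit 0, nat_lit 16, nat_lit 32, nat_lit 48, nat_lit 64]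
noncomputable def cl : CL := (.cons (nat_lit 0) (nat_lit 16) (nat_lit 0) (nat_lit 0) wt0
(.cons (nat_lit 16) (nat_lit 0) (nat_lit 13) (nat_lit 2) wt1
(.cons (nat_lit 32) (nat_lit 32) (nat_lit 26) (nat_lit 4) wt2
(.cons (nat_lit 48) (nat_lit 64) (nat_lit 39) (nat_lit 6) wt3
(.cons (nat_lit 64) (nat_lit 48) (nat_lit 52) (nat_lit 8) wt4
.nil)))))
def rels : List (List ℕ) := [[0, 0, 0, 0, 0, 0, 0],
[2, 2],
[3, 3, 3],
[2, 3, 2, 3, 2, 3],
[0, 2, 1, 2],
[0, 3, 1, 4]]
def subs : List (List ℕ) := []
noncomputable def chk : ℕ → Bool := rowChk row jrow fget sl cols (nat_lit 84) (nat_lit 84) (nat_lit 65535) (nat_lit 127) (nat_lit 65536) (nat_lit 80) (nat_lit 96) (nat_lit 8191) (nat_lit 6) (nat_lit 63) (nat_lit 7) (nat_lit 127) cl (nat_lit 65) wt5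
theorem p0 : allB chk 7 0 = true := by decide +kernel
theorem all_chk : AllLt chk 84 := by
  have h := AllLt.zero chk
  have h := h.step 84 p0 (by decide +kernel)
  exact h
/-- column `x` of the final table -/
noncomputable def tab (x u : ℕ) : ℕ := ft fget (nat_lit 6) (nat_lit 63) (nat_lit 7) (nat_lit 127) (Nat.mul x (nat_lit 2)) u
theorem enum {G Ω : Type*} [Group G] [MulAction G Ω] (g : ℕ → G) (ω : Ω)
    (hinv : ∀ x, g (icol x) = (g x)⁻¹) (h1 : g 5 = 1)
    (hrels : ∀ R ∈ rels, ev g R = 1) (hsubs : ∀ S ∈ subs, ev g S • ω = ω) :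
    ∃ pt : ℕ → Ω, pt 0 = ω ∧ (∀ K : Subgroup G, (∀ x, g x ∈ K) → ∀ v, ∃ k ∈ K, pt v = k • ω) ∧
      ∀ x, x < 5 → ∀ u, u < 84 → tab x u < 84 ∧ g x • pt u = pt (tab x u) :=
  sound_scaled g ω row jrow fget sl inv icol cols (nat_lit 84) (nat_lit 84) (nat_lit 65535) (nat_lit 127) (nat_lit 65536) (nat_lit 80) (nat_lit 96) (nat_lit 8191) (nat_lit 6) (nat_lit 63) (nat_lit 7) (nat_lit 127) 7 cl (nat_lit 65) wt5 rels subs 16 (nat_lit 2) 5
    (fun _ => Nat.mul_div_cancel _ (by decide)) hinv h1 hrels hsubs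
    (by decide +kernel) (by decide +kernel) all_chk
end T54.SzS7
namespace T54.SzS5
open H54 (Tr force band)
open H18.TC
noncomputable def T_0 : Tr := (.node (nat_lit 0) (.leaf (nat_lit 0x18000ecc9ad17e1bc25000c00058e7ef2100be0fd0240003db37f91261351603000033f3bad516d4457018000d918d213f2d51d80000006536f431511907f00c0004d641719803f0d900000039a35b15c09d05e)) (.node (nat_lit 1) (.leaf (nat_lit 0x18000888a691f923829500c000dd2d7cd3bceae0c0300008bcdb18fab4b94d00c00069463db8b5ae5fa02400071d673c8a78f6bb00c000c4abab2fd2702bc0300004774be98d4fa54e0300003fe496e8c43b74f)) (.leaf (nat_lit 0x18000ac987082fe4ccca00c000a90aa8a2e9edb0b030000bebc35c74ca8d1100c000bd5c0ab73ae9b3200c000f0deb8e77df1e2800c0009d8eec976932a0900c0007cf579a495365d300c0008197ae848737774))))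
noncomputable def J_0 : Tr := (.node (nat_lit 0) (.leaf (nat_lit 0x300100100000000000008002002001000000200200000000000010010010000000000000000000100100000000000000010000001001000000000000080080000000000000000000000)) (.node (nat_lit 1) (.leaf (nat_lit 0x300100100000000000008006002000000400400200200000000000000008002002001000000200200000000080000000008006002001000400400400000080000010010000000002000)) (.leaf (nat_lit 0x700100000000000000010006002000000400400400200080000000000000006002001000000000200180080040000000008006002000000000000200080080000000000008002002001))))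
noncomputable def F_0 : Tr := (.node (nat_lit 1) (.node (nat_lit 0) (.leaf (nat_lit 0xad1cdbd98b54e4520e3078928380c1)) (.leaf (nat_lit 0x9caf6735283d69183ca41858b51802))) (.node (nat_lit 2) (.leaf (nat_lit 0x8456c426d7310b4a8a530bdae028e3)) (.node (nat_lit 3) (.leaf (nat_lit 0x7dd553ccd1b0dc265029940056ad04)) (.leaf (nat_lit 0xb3e8a91e06bb46b155019c48073125)))))
noncomputable def T : Tr := T_0
noncomputable def J : Tr := J_0
noncomputable def F : Tr := F_0
noncomputable def row (u : ℕ) : ℕ := Nat.land (Nat.shiftRight (force (Nat.shiftRight u (nat_lit 3)) T.get) (Nat.mul (Nat.land u (nat_lit 7)) (nat_lit 84))) (nat_lit 0xfffffffffffffffffffff)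
noncomputable def jrow (u : ℕ) : ℕ := Nat.land (Nat.shiftRight (force (Nat.shiftRight u (nat_lit 3)) J.get) (Nat.mul (Nat.land u (nat_lit 7)) (nat_lit 78))) (nat_lit 0x3fffffffffffffffffff)
noncomputable def fget (k fx : ℕ) : ℕ := F.get (Nat.add k fx)
noncomputable def wt0 : LT := (.node (nat_lit 0) (.leaf 1 0 [nat_lit 12, nat_lit 12, nat_lit 12])
(.node (nat_lit 1) (.leaf 11 0 [nat_lit 36, nat_lit 0, nat_lit 48])
(.leaf 0 0 [])))
noncomputable def wt1 : LT := (.node (nat_lit 1) (.node (nat_lit 0) (.leaf 11 2 [nat_lit 48, nat_lit 12, nat_lit 36])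
(.leaf 9 2 [nat_lit 24, nat_lit 12, nat_lit 24]))
(.leaf 0 0 []))
noncomputable def wt2 : LT := (.node (nat_lit 0) (.leaf 9 3 [nat_lit 12, nat_lit 24, nat_lit 0])
(.node (nat_lit 1) (.leaf 7 0 [nat_lit 48, nat_lit 24, nat_lit 48])
(.leaf 0 0 [])))
noncomputable def wt3 : LT := (.node (nat_lit 0) (.leaf 11 3 [nat_lit 12, nat_lit 36, nat_lit 0])
(.node (nat_lit 1) (.leaf 5 0 [nat_lit 48, nat_lit 48])
(.node (nat_lit 2) (.leaf 7 3 [nat_lit 24, nat_lit 48, nat_lit 24])
(.leaf 0 0 []))))
noncomputable def wt4 : LT := (.leaf 0 0 [])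
noncomputable def wt5 : LT := (.leaf 0 0 [])
noncomputable def sl : List (ℕ × ℕ × List ℕ × List ℕ) := []
/-- the inverse column -/
noncomputable def icol (x : ℕ) : ℕ := List.getD [nat_lit 1, nat_lit 0, nat_lit 2, nat_lit 4, nat_lit 3] x x
noncomputable def inv (x : ℕ) : ℕ := Nat.mul (icol (Nat.div x (nat_lit 12))) (nat_lit 12)
def cols : List ℕ := [nat_lit 60, nat_lit 0, nat_lit 12, nat_lit 24, nat_lit 36, nat_lit 48]
noncomputable def cl : CL := (.cons (nat_lit 0) (nat_lit 12) (nat_lit 0) (nat_lit 0) wt0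
(.cons (nat_lit 12) (nat_lit 0) (nat_lit 13) (nat_lit 1) wt1
(.cons (nat_lit 24) (nat_lit 24) (nat_lit 26) (nat_lit 2) wt2
(.cons (nat_lit 36) (nat_lit 48) (nat_lit 39) (nat_lit 3) wt3
(.cons (nat_lit 48) (nat_lit 36) (nat_lit 52) (nat_lit 4) wt4
.nil)))))
def rels : List (List ℕ) := [[0, 0, 0, 0],
[2, 2],
[3, 3, 3],
[2, 3, 2, 3],
[0, 2, 1, 2],
[0, 3, 1, 4]]
def subs : List (List ℕ) := []
noncomputable def chk : ℕ → Bool := rowChk row jrow fget sl cols (nat_lit 24) (nat_lit 24) (nat_lit 4095) (nat_lit 31) (nat_lit 4096) (nat_lit 60) (nat_lit 72) (nat_lit 8191) (nat_lit 6) (nat_lit 63) (nat_lit 5) (nat_lit 31) cl (nat_lit 65) wt5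
theorem p0 : allB chk 5 0 = true := by decide +kernel
theorem all_chk : AllLt chk 24 := by
  have h := AllLt.zero chk
  have h := h.step 24 p0 (by decide +kernel)
  exact h
/-- column `x` of the final table -/
noncomputable def tab (x u : ℕ) : ℕ := ft fget (nat_lit 6) (nat_lit 63) (nat_lit 5) (nat_lit 31) (Nat.mul x (nat_lit 1)) u
theorem enum {G Ω : Type*} [Group G] [MulAction G Ω] (g : ℕ → G) (ω : Ω)
    (hinv : ∀ x, g (icol x) = (g x)⁻¹) (h1 : g 5 = 1)
    (hrels : ∀ R ∈ rels, ev g R = 1) (hsubs : ∀ S ∈ subs, ev g S • ω = ω) :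
    ∃ pt : ℕ → Ω, pt 0 = ω ∧ (∀ K : Subgroup G, (∀ x, g x ∈ K) → ∀ v, ∃ k ∈ K, pt v = k • ω) ∧
      ∀ x, x < 5 → ∀ u, u < 24 → tab x u < 24 ∧ g x • pt u = pt (tab x u) :=
  sound_scaled g ω row jrow fget sl inv icol cols (nat_lit 24) (nat_lit 24) (nat_lit 4095) (nat_lit 31) (nat_lit 4096) (nat_lit 60) (nat_lit 72) (nat_lit 8191) (nat_lit 6) (nat_lit 63) (nat_lit 5) (nat_lit 31) 5 cl (nat_lit 65) wt5 rels subs 12 (nat_lit 1) 5
    (fun _ => Nat.mul_div_cancel _ (by decide)) hinv h1 hrels hsubs
    (by decide +kernel) (by decide +kernel) all_chk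
end T54.SzS5
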