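import Cfsg.Agent.Lib.SuzT.Tool
import Cfsg.Agent.Lib.SuzT.Gen
/-! Transport along isomorphisms, small groups from presentations, orbits of letters -/
set_option autoImplicit false
namespace H40.ST
open Subgroup H54 H27.W H95

section tr
variable {G G' : Type*} [Group G] [Group G']

theorem map_cent (ψ : G ≃* G') (H : Subgroup G) : (centralizer (H : Set G)).map ψ.toMonoidHom =
    centralizer (H.map ψ.toMonoidHom : Set G') := by
  ext g
  obtain ⟨g, rfl⟩ := ψ.surjective g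
  rw [show ψ g = ψ.toMonoidHom g from rfl, mem_map_iff_mem ψ.injective, mem_centralizer_iff,
    mem_centralizer_iff]
  exact ⟨fun h _ ⟨k, hk, e⟩ => by rw [← e, ← map_mul, h k hk, map_mul],
    fun h k hk => ψ.injective (by simpa using h _ ⟨k, hk, rfl⟩)⟩

/-- the restriction of an isomorphism -/
noncomputable def subEq (ψ : G ≃* G') {N : Subgroup G} {N' : Subgroup G'}
    (h : N.map ψ.toMonoidHom = N') : N ≃* N' := (ψ.subgroupMap N).trans (MulEquiv.subgroupCongr h)

theorem quot_equiv (ψ : G ≃* G') {N A : Subgroup G} {N' A' : Subgroup G'} (hN : N.map ψ.toMonoidHom = N')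
    (hA : A.map ψ.toMonoidHom = A') [(A.subgroupOf N).Normal] [(A'.subgroupOf N').Normal] :
    Nonempty (N ⧸ A.subgroupOf N ≃* N' ⧸ A'.subgroupOf N') :=
  ⟨QuotientGroup.congr _ _ (subEq ψ hN) (by
    ext g
    obtain ⟨g, rfl⟩ := (subEq ψ hN).surjective g
    rw [show subEq ψ hN g = (subEq ψ hN : N →* N') g from rfl, mem_map_iff_mem (subEq ψ hN).injective,
      mem_subgroupOf, mem_subgroupOf, ← hA]
    exact (mem_map_iff_mem (f := ψ.toMonoidHom) ψ.injective).symm)⟩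

theorem cent_zp (t : G) : centralizer (zpowers t : Set G) = centralizer {t} := by
  rw [zpowers_eq_closure, centralizer_closure]

/-- a `p`-subgroup contains the image of a given one if it has full order -/
theorem exists_into [Finite G'] (φ : G ≃* G') {p k : ℕ} [Fact p.Prime] {A : Subgroup G} (hA : IsPGroup p A)
    {T : Subgroup G'} (c1 : p ^ k ∣ Nat.card T) (c2 : ¬ p ^ (k + 1) ∣ Nat.card G') :
    ∃ ψ : G ≃* G', A.map ψ.toMonoidHom ≤ T := by
  obtain ⟨g, -, h⟩ := conj_into (K := ⊤) le_top c1 (by rwa [card_top]) le_top (hA.map φ.toMonoidHom)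
  exact ⟨φ.trans (MulAut.conj g), by rintro _ ⟨a, ha, rfl⟩; exact h _ ⟨a, ha, rfl⟩⟩

theorem card_syl [Finite G] {p k : ℕ} [hp : Fact p.Prime] (c1 : p ^ k ∣ Nat.card G)
    (c2 : ¬ p ^ (k + 1) ∣ Nat.card G) (P : Sylow p G) : Nat.card P = p ^ k := by
  rw [P.card_eq_multiplicity]
  congr 1
  rw [hp.out.pow_dvd_iff_le_factorization Nat.card_pos.ne'] at c1 c2
  omega

theorem exists_syl [Finite G'] (φ : G ≃* G') {p k : ℕ} [Fact p.Prime] {A : Subgroup G}
    (hA : Nat.card A = p ^ k) (c2 : ¬ p ^ (k + 1) ∣ Nat.card G) (P : Sylow p G') :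
    ∃ ψ : G ≃* G', A.map ψ.toMonoidHom = P := by
  have c1 := hA ▸ card_subgroup_dvd_card A
  rw [Nat.card_congr φ.toEquiv] at c1 c2
  have c3 := card_syl c1 c2 P
  obtain ⟨ψ, h⟩ := exists_into φ (IsPGroup.of_card hA) c3.symm.dvd c2
  exact ⟨ψ, eq_of_le_of_card_ge h (by rw [card_map_of_injective ψ.injective, hA, c3])⟩

theorem ncard_le_len {α β : Type*} {S : Set β} (f : α → β) (l : List α) (h : ∀ g ∈ S, ∃ a ∈ l, f a = g) :
    S.ncard ≤ l.length := by
  classical
  refine (Set.ncard_le_ncard (t := (l.map f).toFinset) (fun g hg => by simpa using h g hg)).trans ?_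
  rw [Set.ncard_coe_finset, ← List.length_map f]
  exact List.toFinset_card_le _

/-- a small group from a presentation and the list of its elements -/
theorem equiv_of_words [Finite G] {Γ : Type} [Group Γ] {R W : List (List ℕ)} {m N : ℕ} (b : Bnd R m N)
    {q : ℕ → Γ} (hq : Rels R q) (hN : N ≤ Nat.card Γ) (wf : band (wfL m R) (wfL m W) = true)
    (hW : ∀ γ, γ = 1 ∨ ∃ w ∈ W, evW q w = γ) {x : ℕ → G} (hx : Rels R x)
    (hne : ∀ w ∈ W, evW x w ≠ 1) : Nonempty (Γ ≃* gen x m) := by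
  rw [band_eq_true] at wf
  have ht : gen q m = ⊤ := top_le_iff.1 fun γ _ => by
    rcases hW γ with rfl | ⟨w, hw, rfl⟩
    exacts [one_mem _, evW_mem_gen q (wfL_spec wf.2 hw)]
  obtain ⟨θ, h⟩ := hom_of_bnd b hq wf.1 (by rwa [ht, card_top]) hx
  refine ⟨(topEquiv.symm.trans (MulEquiv.subgroupCongr ht.symm)).trans
    (Emb.equiv ⟨θ, (injective_iff_map_eq_one θ).2 fun a ha => ?_, h⟩).some⟩
  rcases hW a with e | ⟨w, hw, e⟩
  · exact Subtype.ext e
  · rw [show a = evW (subGen q m) w from Subtype.ext (e.symm.trans (coe_evW_subGen q (wfL_spec wf.2 hw)).symm),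
      map_evW_subGen h (wfL_spec wf.2 hw)] at ha
    exact absurd ha (hne w hw)

theorem mem_pair {x y g : G} {p : ℕ} (hp : 0 < p) (c : Commute x y) (hx : x ^ p = 1) (hy : y ^ p = 1)
    (hg : g ∈ closure {x, y}) : ∃ i, i < p ∧ ∃ j, j < p ∧ g = x ^ i * y ^ j := by
  have key : ∀ (a : G) (n : ℤ), a ^ p = 1 → ∃ i, i < p ∧ a ^ n = a ^ i := fun a n ha =>
    ⟨(n % p).toNat, by
      have := Int.emod_lt_of_pos n (b := p) (by omega)
      have := Int.emod_nonneg n (b := p) (by omega)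
      omega, by
      rw [zpow_eq_zpow_emod' n ha, ← zpow_natCast, Int.toNat_of_nonneg (Int.emod_nonneg n (by omega))]⟩
  obtain ⟨⟨a, b⟩, rfl⟩ := ((closure_le _).2 (by
    rintro _ (rfl | rfl)
    exacts [⟨(Multiplicative.ofAdd 1, 1), by simp [MonoidHom.noncommCoprod]⟩,
      ⟨(1, Multiplicative.ofAdd 1), by simp [MonoidHom.noncommCoprod]⟩]) :
      _ ≤ ((zpowersHom G x).noncommCoprod (zpowersHom G y) fun a b => c.zpow_zpow _ _).range) hg
  obtain ⟨i, hi, e⟩ := key x a.toAdd hx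
  obtain ⟨j, hj, e'⟩ := key y b.toAdd hy
  exact ⟨i, hi, j, hj, by rw [← e, ← e']; rfl⟩

/-- two classes of subgroups of order `p` from two classes of elements -/
theorem two_classes {x b : G} {p : ℕ} [Fact p.Prime] (hx : orderOf x = p) (hb : orderOf b = p)
    (nc : ∀ g ∈ zpowers x, ¬ IsConj g b) (h : ∀ c, orderOf c = p → IsConj c x ∨ IsConj c b) :
    ∃ A B : Subgroup G, Nat.card A = p ∧ Nat.card B = p ∧ (∀ g : G, A.map (MulAut.conj g).toMonoidHom ≠ B) ∧
      ∀ C : Subgroup G, Nat.card C = p → ∃ g : G, C.map (MulAut.conj g).toMonoidHom = A ∨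
        C.map (MulAut.conj g).toMonoidHom = B := by
  refine ⟨zpowers x, zpowers b, (Nat.card_zpowers _).trans hx, (Nat.card_zpowers _).trans hb, fun g e => ?_,
    fun C hC => ?_⟩
  · obtain ⟨a, ha, e'⟩ := e.ge (mem_zpowers b)
    exact nc a ha (isConj_iff.2 ⟨g, e'⟩)
  · obtain ⟨c, rfl⟩ := C.isCyclic_iff_exists_zpowers_eq_top.1 (isCyclic_of_prime_card hC)
    rcases h c ((Nat.card_zpowers _).symm.trans hC) with e | e <;> obtain ⟨g, rfl⟩ := isConj_iff.1 e
    exacts [⟨g, Or.inl (MonoidHom.map_zpowers _ _)⟩, ⟨g, Or.inr (MonoidHom.map_zpowers _ _)⟩]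

/-- a bound for a subgroup of a centraliser from two fixed point counts -/
theorem sub_le {Ω : Type*} [MulAction G Ω] [Finite G] [Finite Ω] {z : G} {H : Subgroup G}
    (hH : H ≤ centralizer {z}) {a b : Ω}
    (ha : z • a = a) (hb : z • b = b) {i j k : ℕ} (h1 : {t : Ω | z • t = t}.ncard ≤ i)
    (h2 : ({t : Ω | z • t = t} ∩ MulAction.orbit (MulAction.stabilizer G a) b).ncard ≤ j)
    (h3 : Nat.card ↥(MulAction.stabilizer G a ⊓ MulAction.stabilizer G b ⊓ H) ≤ k) :
    Nat.card H ≤ i * (j * k) := by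
  have fx : ∀ g ∈ H, ∀ y : Ω, z • y = y → z • g • y = g • y := fun g hg y h => by
    rw [← mul_smul, ← mem_centralizer_singleton_iff.1 (hH hg), mul_smul, h]
  rw [card_eq_orbit_mul _ a, card_eq_orbit_mul (_ ⊓ _) b]
  refine Nat.mul_le_mul ((Set.ncard_le_ncard ?_ (Set.toFinite _)).trans h1) (Nat.mul_le_mul
    ((Set.ncard_le_ncard ?_ (Set.toFinite _)).trans h2) ((card_le_of_le ?_).trans h3))
  · rintro _ ⟨g, rfl⟩; exact fx _ g.2 a ha
  · rintro _ ⟨g, rfl⟩; exact ⟨fx _ g.2.1 b hb, ⟨_, g.2.2⟩, rfl⟩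
  · exact fun g h => ⟨⟨h.1.2, h.2⟩, h.1.1⟩

theorem not_conj_of_fix {Ω : Type*} [MulAction G Ω] [Finite Ω] {g b : G} {p q r : Ω} (hp : g • p = p)
    (hq : g • q = q) (hr : g • r = r) (n1 : p ≠ q) (n2 : p ≠ r) (n3 : q ≠ r)
    (h : {t : Ω | b • t = t}.ncard ≤ 2) : ¬ IsConj g b := fun e => by
  obtain ⟨k, rfl⟩ := isConj_iff.1 e
  have f : ∀ t : Ω, g • t = t → (k * g * k⁻¹) • k • t = k • t := fun t ht => by
    rw [← mul_smul, inv_mul_cancel_right, mul_smul, ht]
  exact h.not_gt ((Set.two_lt_ncard_iff (Set.toFinite _)).2 ⟨_, _, _, f p hp, f q hq, f r hr,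
    (smul_left_cancel_iff k).not.2 n1, (smul_left_cancel_iff k).not.2 n2, (smul_left_cancel_iff k).not.2 n3⟩)

end tr

section orb
variable {G Ω : Type} [Group G] [MulAction G Ω] {c : Cfg} {pt : ℕ → Ω} {pl : ℕ → ℕ} {lt : ℕ → G}

/-- an orbit of the letters is a colour class -/
theorem orbit_eq (X : Ctx c pt) (h : ∀ l, Rep c pt (lt l) (pl l)) {PW : List (List ℕ)} {k col : ℕ}
    (e : allLt (fun s => allLt (fun i => Nat.beq (c.get col (wl c pl (nthW PW (2 * s)) i)) (c.get col i))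
      c.n) k = true) {b N K : ℕ} {ws : List ℕ} (e' : band (Nat.ble (Nat.succ b) c.n)
      (band (Nat.beq (cntLt (fun i => Nat.beq (c.get col i) (c.get col b)) c.n) N)
        (orbCheck (fun s => wl c pl (nthW PW (2 * s))) (fun a => a) (fun _ => 0) (List.range k) K ws b N 0))
      = true) : MulAction.orbit (gen (uW lt PW) k) (pt b) = pt '' {i | i < c.n ∧ c.get col i = c.get col b} ∧
        (MulAction.orbit (gen (uW lt PW) k) (pt b)).ncard = N := by
  simp only [band_eq_true, Nat.ble_eq, allLt_iff, Nat.beq_eq] at e e'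
  have hf : (pt '' {i | i < c.n ∧ c.get col i = c.get col b}).Finite :=
    ((Set.finite_Iio c.n).subset fun _ h => h.1).image pt
  have hs : MulAction.orbit (gen (uW lt PW) k) (pt b) ⊆ pt '' {i | i < c.n ∧ c.get col i = c.get col b} := by
    rintro _ ⟨g, rfl⟩
    refine closure_smul_mem hf ?_ g.2 _ ⟨b, ⟨e'.1, rfl⟩, rfl⟩
    rintro _ ⟨j, hj, rfl⟩
    left
    rintro _ ⟨i, hi, rfl⟩
    have := repF_wl h (nthW PW (2 * j)) i hi.1
    exact ⟨_, ⟨this.1, (e j hj i hi.1).trans hi.2⟩, this.2.symm⟩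
  have h1 := le_ncard_of_le_encard (hf.subset hs) (le_orbit_of_walk X (fun a ha =>
    ⟨_, mem_gen _ (List.mem_range.1 ha), repF_wl h _⟩) e'.1 e'.2.2)
  have h2 : (pt '' {i | i < c.n ∧ c.get col i = c.get col b}).ncard ≤ N := by
    rw [← e'.2.1]
    simpa only [Nat.beq_eq] using ncard_image_le (pt := pt) (fun i => Nat.beq (c.get col i) (c.get col b)) c.n
  exact ⟨Set.eq_of_subset_of_ncard_le hs (h2.trans h1) hf,
    le_antisymm ((Set.ncard_le_ncard hs hf).trans h2) h1⟩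

end orb

theorem eqns_tr : True := by
  have := @subEq.eq_1.{0, 0}
  trivial

end H40.ST
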