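import Cfsg.Agent.Lib.SuzT.YD
import Cfsg.Agent.Lib.SuzT.Fin
import Cfsg.Agent.Lib.SuzT.Tr
import Cfsg.Agent.Lib.Comp.Quasisimple
/-! The centraliser `3.U₄(3)` in a group of Suzuki type -/
set_option autoImplicit false
set_option maxRecDepth 100000
namespace H40.ST
open H54 H27.W H27.MP H40.Suz Cfsg.Spor Subgroup H95
open scoped IsMulCommutative
attribute [local instance] H40.Suz.finite normal_zp

theorem cube_ne {j k r : Suz} (hr : u 0 * r = r * u 0) (h3 : r ^ 3 = 1) (h : j = k * (u 0 * r) * k⁻¹) :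
    j ^ 3 ≠ 1 := fun e => a_ne (by
  rwa [h, conj_pow, conj_eq_one_iff, (show Commute _ _ from hr).mul_pow, h3, mul_one, pow_three, a_sq,
    mul_one] at e)

theorem cls3 {j : centralizer ({u 0} : Set Suz)} (j3 : j ^ 3 = 1) (j1 : j ≠ 1)
    {N : Subgroup (centralizer ({u 0} : Set Suz))} (hN : Nat.card N ≤ 8)
    (h : ∀ q ∈ Q0.subgroupOf _, q * j * q⁻¹ * j⁻¹ ∈ N) :
    ∃ k : centralizer ({u 0} : Set Suz), j = k * uc 10 * k⁻¹ := by
  have : Fact (Nat.Prime 3) := ⟨by norm_num⟩
  obtain ⟨_, ⟨g, rfl⟩, hg⟩ := conj_into (p := 3) (K := πH.range) (T := wgen ub ES3) (k := 4)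
    (wgen_le fun w _ => ⟨_, pi_ev w⟩) (by rw [(gS.card WH.X WH.K).trans hS_size]; norm_num)
    (by rw [card_range]; norm_num) (map_le_range πH _) ((zp_of_pow j3).map πH)
  obtain ⟨_, ha, e⟩ := clS _ (hg _ (mem_map_of_mem _ (mem_zpowers j))) (List.forall_mem_singleton.2 (by
    have : (πH g * πH j * (πH g)⁻¹) ^ 3 = 1 := by rw [conj_pow, ← map_pow, j3]; simp
    simpa [At, xl, upd, pow_three] using this))
  obtain ⟨a, ha', rfl⟩ := List.mem_map.1 ha
  clear ha
  have ha := ha'
  rw [At, evW_upd ub _ (wfL_spec (E := TS.map fun a => a.1 ++ (a.2 ++ invA a.1 [])) (by decide +kernel)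
    (List.mem_map_of_mem ha)), evW_cons, xl_upd ub 15, evW_nil, mul_one, evW_append, evW_append, evW_invA,
    evW_nil, mul_one, ← mul_assoc] at e
  have j3' : j.1 ^ 3 = 1 := congrArg Subtype.val j3
  obtain ⟨k, hk, hj⟩ := lift_conj e.symm
  rcases big ha with rfl | e' | e'
  · rcases hj with hj | hj
    · exact absurd (Subtype.ext (by simpa using hj)) j1
    · exact absurd j3' (cube_ne (by simp) (by simp) hj)
  · rw [e', show evW u [20] = u 10 from mul_one _] at hj
    rcases hj with hj | hj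
    · exact ⟨⟨k, mem_cent_iff.2 hk⟩, Subtype.ext hj⟩
    · exact absurd j3' (cube_ne (mem_cent_iff.1 (u_mem 10)).symm (by
        simpa [At, xl, pow_three] using eqX ([20, 20, 20], []) (by decide)) hj)
  refine absurd (e' (N.map ((MulAut.conj (πH (g⁻¹ * evW uc a.1))⁻¹).toMonoidHom.comp πH)) fun w hw => ?_)
    ((Nat.card_le_card_of_surjective _ (MonoidHom.subgroupMap_surjective _ N)).trans hN).not_gt
  obtain ⟨q, hq, rfl⟩ := List.mem_map.1 hw
  generalize ht : g⁻¹ * evW uc a.1 = t
  have e1 : πH j = πH t * evW ub a.2 * (πH t)⁻¹ := by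
    rw [← ht, map_mul, map_inv, pi_ev]
    calc _ = (πH g)⁻¹ * (πH g * πH j * (πH g)⁻¹) * πH g := by group
      _ = _ := by rw [e]; group
  have hq' : (evW uc q).1 ∈ Q0 := by rw [coe_ev]; exact mem_wgen u (List.mem_cons_of_mem _ hq)
  refine ⟨_, h (t * evW uc q * t⁻¹) (mem_subgroupOf.2
    (conj_mem_of_normalizer (t6.norm _ (mem_cent_iff.1 t.2)) hq')), ?_⟩
  rw [MonoidHom.comp_apply, MulEquiv.coe_toMonoidHom, MulAut.conj_apply]
  simp only [map_mul, map_inv, e1, pi_ev, evW_append, evW_invA, evW_nil]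
  group

variable {G : Type*} [Group G] [Finite G] {v : ℕ → G} {x : G}

omit [Finite G] in
theorem St.exY (h : St v x) {Q Y : Subgroup (centralizer ({v 0} : Set G))} [Q.Normal]
    (hc : Nat.card Q = 2 ^ 7) (hY : Nat.card Y = 3) (hQY : Nat.card ↥⁅Q, Y⁆ = 8) :
    ∃ k, (zpowers (v 10)).map (MulAut.conj k).toMonoidHom = Y.map (centralizer {v 0}).subtype := by
  have : Fact (Nat.Prime 3) := ⟨by norm_num⟩
  obtain ⟨θ, hi, hr, e, -⟩ := Emb.ex h.emb
  let ε : centralizer ({v 0} : Set G) ≃* centralizer ({u 0} : Set Suz) :=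
    (((MulEquiv.subgroupCongr gen15.symm).trans (MonoidHom.ofInjective hi)).trans
      (MulEquiv.subgroupCongr (hr.trans h.cent))).symm
  have e10 : (ε.symm (uc 10)).1 = v 10 :=
    (congrArg θ (Subtype.ext (mul_one _).symm)).trans ((e [20] (by simp)).trans (mul_one _))
  have : (Q.map ε.toMonoidHom).Normal := Normal.map inferInstance _ ε.surjective
  have hQ : Q.map ε.toMonoidHom = Q0.subgroupOf _ := eq_of_le_of_card_ge
    (le_Q0 ((IsPGroup.of_card hc).map _)) (by
      rw [card_map_of_injective ε.injective, hc,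
        Nat.card_congr (subgroupOfEquivOfLe t6.le_centralizer).toEquiv, t6.card]; norm_num)
  obtain ⟨j, rfl⟩ := Y.isCyclic_iff_exists_zpowers_eq_top.1 (isCyclic_of_prime_card hY)
  rw [Nat.card_zpowers] at hY
  obtain ⟨k, hk⟩ := cls3 (j := ε j) (by rw [← map_pow, ← hY, pow_orderOf_eq_one, map_one])
    (fun f => by simp [ε.map_eq_one_iff.1 f] at hY) (N := ⁅Q, zpowers j⁆.map ε.toMonoidHom)
    ((card_map_of_injective ε.injective).trans hQY).le fun q hq => by
      obtain ⟨q', hq', rfl⟩ := hQ.ge hq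
      exact ⟨_, commutator_mem_commutator hq' (mem_zpowers j), by simp [commutatorElement_def]⟩
  refine ⟨(ε.symm k).1, ?_⟩
  rw [MonoidHom.map_zpowers, MonoidHom.map_zpowers, ← ε.symm_apply_apply j, hk, map_mul ε.symm, map_mul ε.symm,
    map_inv ε.symm, ← e10]
  rfl

/-- the centraliser of `Y` is `3.U₄(3)` -/
structure Y3 (Y : Subgroup G) : Prop where
  qs : Cfsg.IsQuasisimple (centralizer (Y : Set G))
  eqv : ∃ _ : (Y.subgroupOf (centralizer (Y : Set G))).Normal,
    Nonempty (centralizer (Y : Set G) ⧸ Y.subgroupOf (centralizer (Y : Set G)) ≃* H95.U43.U)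
  rel : (centralizer (Y : Set G)).relIndex (normalizer (Y : Set G)) = 2
  card : Nat.card (centralizer (Y : Set G)) = 9797760

omit [Finite G] in
theorem Y3.map {Y : Subgroup G} (h : Y3 Y) (ψ : G ≃* G) : Y3 (Y.map ψ.toMonoidHom) := by
  obtain ⟨_, ⟨e⟩⟩ := h.eqv
  have n : ((Y.map ψ.toMonoidHom).subgroupOf (centralizer (Y.map ψ.toMonoidHom : Set G))).Normal :=
    normal_subgroupOf_of_le_normalizer (centralizer_le_normalizer _)
  exact ⟨H23.IsQuasisimple.of_mulEquiv (subEq ψ (map_cent ψ Y)) h.qs,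
    ⟨n, ⟨(quot_equiv ψ (map_cent ψ Y) rfl).some.symm.trans e⟩⟩,
    by rw [← map_cent, ← map_equiv_normalizer_eq, relIndex_map_map_of_injective _ _ ψ.injective, h.rel],
    by rw [← map_cent, card_map_of_injective ψ.injective, h.card]⟩

theorem rel_two {y d : G} (y3 : y ^ 3 = 1) (y1 : y ≠ 1) (hd : d * y * d⁻¹ = y⁻¹) :
    (centralizer {y}).relIndex (normalizer (zpowers y : Set G)) = 2 := by
  have l : centralizer {y} ≤ normalizer (zpowers y : Set G) := cent_zp y ▸ centralizer_le_normalizer _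
  have e : clsIn (normalizer (zpowers y : Set G)) y = {y, y⁻¹} := by
    ext g
    constructor
    · rintro ⟨k, hk, rfl⟩
      exact (zp3 y3 (conj_mem_of_normalizer hk (mem_zpowers y))).resolve_left (conj_eq_one_iff.not.2 y1)
    · rintro (rfl | rfl)
      · exact ⟨1, one_mem _, by simp⟩
      · exact ⟨d, mem_normalizer_of_finite fun _ ⟨k, e⟩ => by
          rw [← e, ← conj_zpow, hd]; exact zpow_mem (inv_mem (mem_zpowers _)) _, hd⟩
  have h1 := ncard_clsIn_mul (normalizer (zpowers y : Set G)) y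
  rw [e, inf_eq_right.2 l, Set.ncard_pair (fun f => y1 (by
    rwa [pow_three, mul_eq_one_iff_eq_inv.2 f, mul_one] at y3)), 
    ← index_mul_card ((centralizer {y}).subgroupOf (normalizer (zpowers y : Set G))),
    Nat.card_congr (subgroupOfEquivOfLe l).toEquiv] at h1
  exact (Nat.eq_of_mul_eq_mul_right Nat.card_pos h1).symm

theorem St2.y3s (h : St2 v x) : Y3 (zpowers (v 10)) := by
  have : Fact (Nat.Prime 3) := ⟨by norm_num⟩
  have y1 : v 10 ≠ 1 := by simpa [xl] using h.nes [20] (by decide)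
  have hU := finalU (h.rhw.map (QuotientGroup.mk' _)) h.kb0 h.card_kb
  obtain ⟨e⟩ := hU.equiv
  have := H95.U43.isSimpleGroup
  have hs := e.isSimpleGroup
  have na : ¬ IsMulCommutative (centralizer ({v 10} : Set G) ⧸ (zpowers (v 10)).subgroupOf _) := fun _ =>
    absurd (hU.card ▸ IsSimpleGroup.prime_card) (by norm_num)
  have hz : center _ = (zpowers (v 10)).subgroupOf (centralizer {v 10}) := le_antisymm (fun g hg =>
    (QuotientGroup.eq_one_iff g).1 (((hs.eq_bot_or_eq_top_of_normal (center _) inferInstance).resolve_right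
      fun f => na ⟨⟨fun a b => mem_center_iff.1 (f.ge (mem_top b)) a⟩⟩).le (mem_center_iff.2 fun k => by
        obtain ⟨k, rfl⟩ := QuotientGroup.mk_surjective k
        rw [← QuotientGroup.mk_mul, mem_center_iff.1 hg, QuotientGroup.mk_mul])))
    fun g ⟨n, hn⟩ => mem_center_iff.2 fun k => Subtype.ext (by
      rw [coe_mul, coe_mul, ← show v 10 ^ n = g.1 from hn]
      exact (show Commute k.1 (v 10) from mem_cent_iff.1 k.2).zpow_right n)
  have h1 : commutator _ ⊔ (zpowers (v 10)).subgroupOf (centralizer {v 10}) = ⊤ := by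
    have := comap_map_eq (QuotientGroup.mk' ((zpowers (v 10)).subgroupOf (centralizer {v 10}))) (commutator _)
    rw [_root_.commutator_def, map_commutator, map_top_of_surjective _ (QuotientGroup.mk'_surjective _),
      ← _root_.commutator_def, (hs.eq_bot_or_eq_top_of_normal _ inferInstance).resolve_left
        fun f => na ((commutator_eq_bot_iff _).1 f), comap_top, QuotientGroup.ker_mk'] at this
    exact this.symm
  let φ := Abelianization.of (G := centralizer ({v 10} : Set G))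
  have h2 : ∀ g, g * g = 1 → φ g = 1 := fun g g2 => by
    obtain ⟨a, ha, b, hb, rfl⟩ := mem_sup_of_normal_left.1 (h1.ge (mem_top g))
    have b3 : b ^ 3 = 1 := Subtype.ext (by
      rcases zp3 h.y3 hb with f | f | f <;> simp [show b.1 = _ from f, h.y3])
    have := congrArg φ g2
    have a1 : φ a = 1 := (Abelianization.ker_of _).ge ha
    simp only [map_mul, map_one, a1, one_mul] at this ⊢
    calc φ b = φ b * (φ b * φ b) := by rw [this, mul_one]
      _ = 1 := by rw [← pow_three, ← map_pow, b3, map_one]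
  have h3 : φ ((h.b * h.kap 2 * h.kap 4) ^ 5) = 1 := by
    rw [map_pow, map_mul, map_mul, h2 _ (Subtype.ext (by
      simpa [xl, upd] using h.rel0 [10, 10] (by decide))), h2 _ (by simpa [xl] using h.rhw [4, 4] (by decide)),
      h2 _ (by simpa [xl] using h.rhw [8, 8] (by decide))]
    simp
  have h4 : ((h.b * h.kap 2 * h.kap 4) ^ 5).1 =
      evW (upd v 5 h.b.1) [10, 6, 8, 10, 6, 8, 10, 6, 8, 10, 6, 8, 10, 6, 8] := by
    change _ = evW _ (List.replicate 5 [10, 6, 8]).flatten
    have k2 : (h.kap 2).1 = v 3 := mul_one _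
    have k4 : (h.kap 4).1 = v 4 := mul_one _
    rw [evW_rep]
    simp [xl, upd, k2, k4, mul_assoc]
  have h5 : (zpowers (v 10)).subgroupOf (centralizer {v 10}) ≤ commutator _ := by
    have h6 : _ ∈ (commutator _).map (centralizer {v 10}).subtype :=
      mem_map_of_mem _ ((Abelianization.ker_of _).le h3)
    rw [subtype_apply, h4] at h6
    refine (subgroupOf_mono _ (zpowers_le.2 ?_)).trans (comap_map_eq_self_of_injective (subtype_injective _) _).le
    rcases zp3 h.y3 (h.mem_zp _ (List.mem_append_right _ (List.mem_singleton_self _))) with f | f | f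
    · exact absurd f h.last
    · rwa [f] at h6
    · exact inv_mem_iff.1 (by rwa [f] at h6)
  have dd : v 8 * v 8 = 1 := by simpa [At, xl] using h.eqs ([16, 16], []) (by decide)
  constructor <;> rw [cent_zp]
  · exact ⟨⟨(sup_eq_left.2 h5).symm.trans h1⟩, (QuotientGroup.quotientMulEquivOfEq hz).isSimpleGroup⟩
  · exact ⟨inferInstance, ⟨e⟩⟩
  · exact rel_two (d := v 8) h.y3 y1 (eq_inv_of_mul_eq_one_right (by
      simpa [At, xl, inv_eq_of_mul_eq_one_right dd, mul_assoc] using h.eqs ([20, 16, 20, 16], []) (by decide)))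
  · rw [card_eq_card_quotient_mul_card_subgroup ((zpowers (v 10)).subgroupOf _), hU.card,
      Nat.card_congr (subgroupOfEquivOfLe (zpowers_le.2 (mem_cent_iff.2 rfl))).toEquiv, Nat.card_zpowers,
      orderOf_eq_prime h.y3 y1]

theorem y3_of {z g : G} {Q Y : Subgroup (centralizer ({z} : Set G))} [Q.Normal]
    (h : T6 (Q.map (centralizer ({z} : Set G)).subtype) z)
    (hg : g * z * g⁻¹ ∈ Q.map (centralizer ({z} : Set G)).subtype) (hne : g * z * g⁻¹ ≠ z)
    (hc : Nat.card Q = 2 ^ 7) (hY : Nat.card Y = 3) (hQY : Nat.card ↥⁅Q, Y⁆ = 8) :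
    Y3 (Y.map (centralizer {z}).subtype) := by
  obtain ⟨v, y, rfl, h1⟩ := exists_st h hg hne
  obtain ⟨y, h2⟩ := h1.st2
  obtain ⟨k, e⟩ := h2.exY hc hY hQY
  exact e ▸ h2.y3s.map _

end H40.ST
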